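import Mathlib
import Groth.Agent.Lib.Helper8.RatExt

/-!
# Generic lemmas for extending pseudo-morphisms with prescribed reduction
-/

set_option autoImplicit false

universe u

open CategoryTheory CategoryTheory.Limits AlgebraicGeometry TopologicalSpace IsLocalRing

namespace Groth.Agent.H5.PrescRed

open Groth.Agent.H8

/-- Two morphisms agreeing locally are equal. -/
theorem hom_ext_of_locally {W Y : Scheme.{u}} (a b : W ⟶ Y)
    (H : ∀ w : W, ∃ N : W.Opens, w ∈ N ∧ N.ι ≫ a = N.ι ≫ b) : a = b := by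
  choose N hwN hN using H
  have hcov : IsOpenCover N :=
    eq_top_iff.mpr (fun w _ => Opens.mem_iSup.mpr ⟨w, hwN w⟩)
  exact (W.openCoverOfIsOpenCover N hcov).hom_ext _ _ (fun w => hN w)

/-- The generic point of the spectrum of a domain is dominant. -/
instance isDominant_generic (R : Type u) [CommRing R] [IsDomain R] :
    IsDominant (Spec.map (CommRingCat.ofHom (algebraMap R (FractionRing R)))) := by
  constructor
  have hgen := genericPoint_spec (Spec (CommRingCat.of R))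
  have hd : Dense ({genericPoint (Spec (CommRingCat.of R))} : Set (Spec (CommRingCat.of R))) := by
    rw [dense_iff_closure_eq]; exact hgen.def
  refine hd.mono ?_
  rintro _ rfl
  rw [genericPoint_eq_bot_of_affine]
  exact ⟨closedPoint (FractionRing R), DVRSch.specMap_fractionRing_apply R _⟩

/-- Two morphisms from the spectrum of a local domain which agree at the generic point and send the
closed point into a common affine open are equal. -/
theorem local_domain_hom_ext {Y : Scheme.{u}} (R : Type u) [CommRing R] [IsDomain R] [IsLocalRing R]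
    (l₁ l₂ : Spec (CommRingCat.of R) ⟶ Y) (Y₀ : Y.Opens) (hY₀ : IsAffineOpen Y₀)
    (h1 : l₁ (closedPoint R) ∈ Y₀) (h2 : l₂ (closedPoint R) ∈ Y₀)
    (hgen : Spec.map (CommRingCat.ofHom (algebraMap R (FractionRing R))) ≫ l₁ =
      Spec.map (CommRingCat.ofHom (algebraMap R (FractionRing R))) ≫ l₂) : l₁ = l₂ := by
  have hr1 : Set.range l₁ ⊆ Set.range Y₀.ι := by
    rw [Scheme.Opens.range_ι]; exact MonoVal.range_subset_of_closedPoint_mem R l₁ Y₀ h1
  have hr2 : Set.range l₂ ⊆ Set.range Y₀.ι := by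
    rw [Scheme.Opens.range_ι]; exact MonoVal.range_subset_of_closedPoint_mem R l₂ Y₀ h2
  have e₁ : IsOpenImmersion.lift Y₀.ι l₁ hr1 ≫ Y₀.ι = l₁ := IsOpenImmersion.lift_fac _ _ _
  have e₂ : IsOpenImmersion.lift Y₀.ι l₂ hr2 ≫ Y₀.ι = l₂ := IsOpenImmersion.lift_fac _ _ _
  haveI : IsAffine Y₀.toScheme := hY₀
  have : IsOpenImmersion.lift Y₀.ι l₁ hr1 = IsOpenImmersion.lift Y₀.ι l₂ hr2 := by
    apply ext_of_isDominant (Spec.map (CommRingCat.ofHom (algebraMap R (FractionRing R))))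
    rw [← cancel_mono Y₀.ι, Category.assoc, Category.assoc, e₁, e₂, hgen]
  rw [← e₁, ← e₂, this]

/-- Gluing morphisms defined on an open cover and agreeing on intersections. -/
theorem exists_glue {X Y : Scheme.{u}} {J : Type u} (W : J → X.Opens) (hW : IsOpenCover W)
    (k : ∀ j, (W j).toScheme ⟶ Y)
    (hk : ∀ i j, X.homOfLE (inf_le_left : W i ⊓ W j ≤ W i) ≫ k i =
      X.homOfLE (inf_le_right : W i ⊓ W j ≤ W j) ≫ k j) :
    ∃ h' : X ⟶ Y, ∀ j, (W j).ι ≫ h' = k j := by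
  let 𝒰 := X.openCoverOfIsOpenCover W hW
  have hcompat : ∀ i j, pullback.fst (𝒰.f i) (𝒰.f j) ≫ k i = pullback.snd _ _ ≫ k j := by
    intro i j
    exact Extend.comp_eq_of_agree (W i) (W j) (k i) (k j) (hk i j) _ _ pullback.condition
  exact ⟨𝒰.glueMorphisms k hcompat, fun j => 𝒰.ι_glueMorphisms k hcompat j⟩

/-- Uniqueness: on a locally Noetherian scheme, two morphisms agreeing on a dense open and
pointwise on the complement, whose points have domain stalks, are equal. -/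
theorem eq_of_agree_dense {W Y : Scheme.{u}} [IsLocallyNoetherian W] (D' : W.Opens)
    (hD' : Dense (D' : Set W)) (a b : W ⟶ Y) (hab : D'.ι ≫ a = D'.ι ≫ b)
    (hpt : ∀ w : W, w ∉ D' → IsDomain (W.presheaf.stalk w) ∧ a w = b w) : a = b := by
  apply hom_ext_of_locally
  intro w
  by_cases hw : w ∈ D'
  · exact ⟨D', hw, hab⟩
  obtain ⟨hdom, hawbw⟩ := hpt w hw
  haveI := hdom
  apply spread_out_unique_of_isGermInjective'
  -- the generic point of the stalk lies in `D'`
  obtain ⟨V₁, hwV₁, hV₁int⟩ := Extend.exists_isIntegral_nhd_of_germInjective w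
  obtain ⟨hηV₁, hV₁cl⟩ := Extend.genPt_mem_and_subset_closure w V₁ hwV₁
  have hηD : Extend.genPt w ∈ D' := by
    obtain ⟨u, huV, huD⟩ := hD'.inter_open_nonempty V₁ V₁.isOpen ⟨w, hwV₁⟩
    have h1 : Extend.genPt w ⤳ u := specializes_iff_mem_closure.2 (hV₁cl huV)
    exact h1.mem_open D'.isOpen huD
  obtain ⟨_, ⟨Y₀ : Y.Opens, hY₀, rfl⟩, haY₀, -⟩ :=
    Y.isBasis_affineOpens.exists_subset_of_mem_open (Set.mem_univ (a w)) isOpen_univ
  apply local_domain_hom_ext (W.presheaf.stalk w) _ _ Y₀ hY₀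
  · rw [Scheme.Hom.comp_apply, Scheme.fromSpecStalk_closedPoint]; exact haY₀
  · rw [Scheme.Hom.comp_apply, Scheme.fromSpecStalk_closedPoint, ← hawbw]; exact haY₀
  · -- factor through `D'`
    set γ := Spec.map (CommRingCat.ofHom (algebraMap (W.presheaf.stalk w)
      (FractionRing (W.presheaf.stalk w)))) ≫ W.fromSpecStalk w with hγ
    have hr : Set.range γ ⊆ Set.range D'.ι := by
      rw [Scheme.Opens.range_ι]
      rintro _ ⟨pt, rfl⟩
      rw [hγ, Scheme.Hom.comp_apply, DVRSch.specMap_fractionRing_apply]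
      exact hηD
    have e := IsOpenImmersion.lift_fac D'.ι γ hr
    rw [← Category.assoc, ← Category.assoc, ← hγ, ← e, Category.assoc, Category.assoc, hab]

/-- On a reduced scheme, two morphisms agreeing on all residue field points are equal. -/
theorem eq_of_fromSpecResidueField_eq {Z Y : Scheme.{u}} [IsReduced Z] (a b : Z ⟶ Y)
    (H : ∀ p : Z, Z.fromSpecResidueField p ≫ a = Z.fromSpecResidueField p ≫ b) : a = b := by
  have hpt : ∀ p : Z, a p = b p := by
    intro p
    have := congr(($(H p)) (closedPoint (Z.residueField p)))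
    rwa [Scheme.Hom.comp_apply, Scheme.Hom.comp_apply, Scheme.fromSpecResidueField_apply] at this
  apply hom_ext_of_locally
  intro p
  obtain ⟨_, ⟨Y₀ : Y.Opens, hY₀, rfl⟩, haY₀, -⟩ :=
    Y.isBasis_affineOpens.exists_subset_of_mem_open (Set.mem_univ (a p)) isOpen_univ
  refine ⟨a ⁻¹ᵁ Y₀ ⊓ b ⁻¹ᵁ Y₀, ⟨haY₀, ?_⟩, ?_⟩
  · change b p ∈ Y₀
    rw [← hpt p]; exact haY₀
  set Z₀ : Z.Opens := a ⁻¹ᵁ Y₀ ⊓ b ⁻¹ᵁ Y₀ with hZ₀
  have hmem : ∀ x : Z₀.toScheme, Z₀.ι x ∈ Z₀ := fun x => by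
    have hx : Z₀.ι x ∈ Set.range Z₀.ι := ⟨x, rfl⟩
    rwa [Scheme.Opens.range_ι] at hx
  have hra : Set.range (Z₀.ι ≫ a) ⊆ Set.range Y₀.ι := by
    rw [Scheme.Opens.range_ι]
    rintro _ ⟨x, rfl⟩
    rw [Scheme.Hom.comp_apply]
    exact (hmem x).1
  have hrb : Set.range (Z₀.ι ≫ b) ⊆ Set.range Y₀.ι := by
    rw [Scheme.Opens.range_ι]
    rintro _ ⟨x, rfl⟩
    rw [Scheme.Hom.comp_apply]
    exact (hmem x).2
  have ea : IsOpenImmersion.lift Y₀.ι (Z₀.ι ≫ a) hra ≫ Y₀.ι = Z₀.ι ≫ a :=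
    IsOpenImmersion.lift_fac _ _ _
  have eb : IsOpenImmersion.lift Y₀.ι (Z₀.ι ≫ b) hrb ≫ Y₀.ι = Z₀.ι ≫ b :=
    IsOpenImmersion.lift_fac _ _ _
  haveI : IsAffine Y₀.toScheme := hY₀
  have : IsOpenImmersion.lift Y₀.ι (Z₀.ι ≫ a) hra = IsOpenImmersion.lift Y₀.ι (Z₀.ι ≫ b) hrb := by
    apply ext_of_fromSpecResidueField_eq _ _ (terminal.from Y₀.toScheme) Set.univ dense_univ
    · intro x _
      rw [← cancel_mono Y₀.ι, Category.assoc, Category.assoc, ea, eb,
        ← Scheme.Hom.SpecMap_residueFieldMap_fromSpecResidueField_assoc,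
        ← Scheme.Hom.SpecMap_residueFieldMap_fromSpecResidueField_assoc, H]
    · exact terminal.hom_ext _ _
  rw [← ea, ← eb, this]

end Groth.Agent.H5.PrescRed
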