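import Mathlib
import Groth.Agent.Lib.Helper5.PrescRed.PrA

/-!
# Extension with prescribed reduction: the DVR criterion, local extension
-/

set_option autoImplicit false

universe u

open CategoryTheory CategoryTheory.Limits AlgebraicGeometry TopologicalSpace IsLocalRing

namespace Groth.Agent.H5.PrescRed

open Groth.Agent.H8

/-- `Spec` of a homomorphism of fields is an epimorphism of schemes. -/
theorem epi_specMap_of_isField {A B : CommRingCat.{u}} (hA : IsField A) (hB : IsField B)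
    (φ : A ⟶ B) : Epi (Spec.map φ) := by
  letI := hA.toField
  letI := hB.toField
  haveI : Flat (Spec.map φ) := by
    rw [HasRingHomProperty.Spec_iff (P := @Flat)]
    letI := φ.hom.toAlgebra
    change Module.Flat A B
    infer_instance
  haveI : Surjective (Spec.map φ) :=
    ⟨fun x => ⟨closedPoint B, Subsingleton.elim (α := PrimeSpectrum A) _ _⟩⟩
  exact Flat.epi_of_flat_of_surjective _

section

variable {X Y S : Scheme.{u}} (f : X ⟶ S) (g : Y ⟶ S) (U : S.Opens) (h : ↑(f ⁻¹ᵁ U) ⟶ Y)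
  {Z : Scheme.{u}} (iZ : Z ⟶ X) (h₀ : Z ⟶ Y)

/-- The criterion with discrete valuation rings. -/
def DvrHyp : Prop :=
  ∀ (R : Type u) [CommRing R] [IsDomain R] [IsDiscreteValuationRing R]
    (u : Spec (CommRingCat.of R) ⟶ S),
    u (IsLocalRing.closedPoint R) ∉ U → u (genericPoint ↥(Spec (CommRingCat.of R))) ∈ U →
    ∃ h₁ : pullback f u ⟶ pullback g u,
      h₁ ≫ pullback.snd g u = pullback.snd f u ∧
      ((pullback.fst f u) ⁻¹ᵁ (f ⁻¹ᵁ U)).ι ≫ h₁ ≫ pullback.fst g u =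
        (pullback.fst f u ∣_ (f ⁻¹ᵁ U)) ≫ h ∧
      ∀ z₁ : ↥(pullback (iZ ≫ f) u),
        (pullback (iZ ≫ f) u).fromSpecResidueField z₁ ≫
            pullback.lift (pullback.fst (iZ ≫ f) u ≫ iZ) (pullback.snd (iZ ≫ f) u)
              ((Category.assoc _ _ _).trans pullback.condition) ≫ h₁ ≫ pullback.fst g u =
          (pullback (iZ ≫ f) u).fromSpecResidueField z₁ ≫ pullback.fst (iZ ≫ f) u ≫ h₀

theorem dvrHyp_of_exists (h' : X ⟶ Y) (hg : h' ≫ g = f) (hh' : (f ⁻¹ᵁ U).ι ≫ h' = h)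
    (hz : iZ ≫ h' = h₀) : DvrHyp f g U h iZ h₀ := by
  intro R _ _ _ u _ _
  refine ⟨pullback.lift (pullback.fst f u ≫ h') (pullback.snd f u)
    (by rw [Category.assoc, hg, pullback.condition]), ?_, ?_, ?_⟩
  · exact pullback.lift_snd _ _ _
  · rw [pullback.lift_fst, ← hh', morphismRestrict_ι_assoc]
  · intro z₁
    simp only [pullback.lift_fst, pullback.lift_fst_assoc, Category.assoc]
    rw [hz]

theorem dense_preimage [IsLocallyNoetherian S] [Flat f] (hU : Dense (U : Set S)) :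
    Dense ((f ⁻¹ᵁ U : X.Opens) : Set X) := by
  rw [dense_iff_inter_open]
  rintro N hN ⟨x, hxN⟩
  have hfx : f x ∈ closure ((U : Set S) ∩ Set.univ) := by
    rw [Set.inter_univ]; exact hU (f x)
  obtain ⟨s', ⟨hs'U, -⟩, hs'⟩ :=
    RatExt.exists_specializes_of_mem_closure_inter U Set.univ isClosed_univ (f x) hfx
  obtain ⟨x', hx'x, hfx'⟩ := (Flat.generalizingMap (f := f)) hs'
  refine ⟨x', hx'x.mem_open hN hxN, ?_⟩
  change f x' ∈ U
  rw [hfx']; exact hs'U

theorem exists_dvr_through [IsLocallyNoetherian X] (D : X.Opens) (hD : Dense (D : Set X))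
    (p : X) (hp : p ∉ D) :
    ∃ (B : Type u) (_ : CommRing B) (_ : IsDomain B) (_ : IsDiscreteValuationRing B)
      (u' : Spec (CommRingCat.of B) ⟶ X),
      u' (closedPoint B) = p ∧ u' (⊥ : PrimeSpectrum B) ∈ D := by
  have hp' : p ∈ closure ((D : Set X) ∩ Set.univ) := by
    rw [Set.inter_univ]; exact hD p
  obtain ⟨d, ⟨hdD, -⟩, hd⟩ :=
    RatExt.exists_specializes_of_mem_closure_inter D Set.univ isClosed_univ p hp'
  have hne : d ≠ p := fun e => hp (e ▸ hdD)
  obtain ⟨B, i1, i2, i3, u', hc, hb⟩ := DVRSch.exists_dvr_of_specializes hd hne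
  exact ⟨B, i1, i2, i3, u', hc, hb ▸ hdD⟩

/-- Step A: the morphism `Spec R ⟶ Y` obtained from the criterion. -/
theorem stepA (H : DvrHyp f g U h iZ h₀) (R : Type u) [CommRing R] [IsDomain R]
    [IsDiscreteValuationRing R]
    (u' : Spec (CommRingCat.of R) ⟶ X) (hc : u' (closedPoint R) ∉ f ⁻¹ᵁ U)
    (ub : Spec (CommRingCat.of (FractionRing R)) ⟶ ↑(f ⁻¹ᵁ U))
    (hub : ub ≫ (f ⁻¹ᵁ U).ι = Spec.map (CommRingCat.ofHom (algebraMap R (FractionRing R))) ≫ u') :
    ∃ l₁ : Spec (CommRingCat.of R) ⟶ Y, l₁ ≫ g = u' ≫ f ∧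
      Spec.map (CommRingCat.ofHom (algebraMap R (FractionRing R))) ≫ l₁ = ub ≫ h ∧
      ∀ t' : Spec (CommRingCat.of (ResidueField R)) ⟶ Z,
        t' ≫ iZ = Spec.map (CommRingCat.ofHom (residue R)) ≫ u' →
        Spec.map (CommRingCat.ofHom (residue R)) ≫ l₁ = t' ≫ h₀ := by
  have hgenU : (u' ≫ f) (genericPoint ↥(Spec (CommRingCat.of R))) ∈ U := by
    rw [genericPoint_eq_bot_of_affine,
      ← DVRSch.specMap_fractionRing_apply R (closedPoint (FractionRing R)),
      ← Scheme.Hom.comp_apply, ← Category.assoc, ← hub, Category.assoc, Scheme.Hom.comp_apply,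
      Scheme.Hom.comp_apply]
    have hx : (f ⁻¹ᵁ U).ι (ub (closedPoint (FractionRing R))) ∈ Set.range (f ⁻¹ᵁ U).ι := ⟨_, rfl⟩
    rw [Scheme.Opens.range_ι] at hx
    exact hx
  obtain ⟨h₁, hh₁snd, hh₁res, hh₁z⟩ := H R (u' ≫ f) hc hgenU
  let σ : Spec (CommRingCat.of R) ⟶ pullback f (u' ≫ f) :=
    pullback.lift u' (𝟙 _) (by rw [Category.id_comp])
  have hσ1 : σ ≫ pullback.fst f (u' ≫ f) = u' := pullback.lift_fst _ _ _
  have hσ2 : σ ≫ pullback.snd f (u' ≫ f) = 𝟙 _ := pullback.lift_snd _ _ _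
  refine ⟨σ ≫ h₁ ≫ pullback.fst g (u' ≫ f), ?_, ?_, ?_⟩
  · rw [Category.assoc, Category.assoc, pullback.condition, reassoc_of% hh₁snd, reassoc_of% hσ2]
  · -- generic point
    have hr : Set.range (Spec.map (CommRingCat.ofHom (algebraMap R (FractionRing R))) ≫ σ) ⊆
        Set.range ((pullback.fst f (u' ≫ f)) ⁻¹ᵁ (f ⁻¹ᵁ U)).ι := by
      rw [Scheme.Opens.range_ι]
      rintro _ ⟨pt, rfl⟩
      change pullback.fst f (u' ≫ f) _ ∈ f ⁻¹ᵁ U
      rw [← Scheme.Hom.comp_apply, Category.assoc, hσ1, ← hub, Scheme.Hom.comp_apply]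
      have hx : (f ⁻¹ᵁ U).ι (ub pt) ∈ Set.range (f ⁻¹ᵁ U).ι := ⟨_, rfl⟩
      rw [Scheme.Opens.range_ι] at hx
      exact hx
    have e := IsOpenImmersion.lift_fac ((pullback.fst f (u' ≫ f)) ⁻¹ᵁ (f ⁻¹ᵁ U)).ι _ hr
    have e2 : IsOpenImmersion.lift ((pullback.fst f (u' ≫ f)) ⁻¹ᵁ (f ⁻¹ᵁ U)).ι _ hr ≫
        (pullback.fst f (u' ≫ f) ∣_ (f ⁻¹ᵁ U)) = ub := by
      rw [← cancel_mono (f ⁻¹ᵁ U).ι, Category.assoc, morphismRestrict_ι, reassoc_of% e,
        hσ1, hub]
    rw [← Category.assoc, ← e, Category.assoc, hh₁res, reassoc_of% e2]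
  · intro t' ht'
    let ρ : Spec (CommRingCat.of (ResidueField R)) ⟶ pullback (iZ ≫ f) (u' ≫ f) :=
      pullback.lift t' (Spec.map (CommRingCat.ofHom (residue R)))
        (by rw [reassoc_of% ht'])
    have hρ1 : ρ ≫ pullback.fst (iZ ≫ f) (u' ≫ f) = t' := pullback.lift_fst _ _ _
    have hρ2 : ρ ≫ pullback.snd (iZ ≫ f) (u' ≫ f) = Spec.map (CommRingCat.ofHom (residue R)) :=
      pullback.lift_snd _ _ _
    have hfac := Scheme.descResidueField_stalkClosedPointTo_fromSpecResidueField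
      (ResidueField R) (pullback (iZ ≫ f) (u' ≫ f)) ρ
    have hz := hh₁z (ρ (closedPoint (ResidueField R)))
    have hz' := congr(Spec.map (Scheme.descResidueField (Scheme.stalkClosedPointTo ρ)) ≫ $hz)
    rw [reassoc_of% hfac, reassoc_of% hfac, reassoc_of% hρ1] at hz'
    rw [← hz']
    have hj : ρ ≫ pullback.lift (pullback.fst (iZ ≫ f) (u' ≫ f) ≫ iZ)
        (pullback.snd (iZ ≫ f) (u' ≫ f))
        ((Category.assoc _ _ _).trans pullback.condition) =
        Spec.map (CommRingCat.ofHom (residue R)) ≫ σ := by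
      apply pullback.hom_ext
      · rw [Category.assoc, pullback.lift_fst, reassoc_of% hρ1, ht', Category.assoc, hσ1]
      · rw [Category.assoc, pullback.lift_snd, hρ2, Category.assoc, hσ2, Category.comp_id]
    rw [reassoc_of% hj]

/-- Step B: local extension at a point of `Z`. -/
theorem stepB [IsLocallyNoetherian S] [IsLocallyNoetherian X] [Flat f] [LocallyOfFiniteType g]
    (hU : Dense (U : Set S)) (hh : h ≫ g = (f ⁻¹ᵁ U).ι ≫ f) [IsClosedImmersion iZ]
    (hZ : Set.range iZ = ((f ⁻¹ᵁ U : X.Opens) : Set X)ᶜ) (hh₀ : h₀ ≫ g = iZ ≫ f)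
    (hnorm : ∀ z : Z, IsDomain (X.presheaf.stalk (iZ z)) ∧
      IsIntegrallyClosed (X.presheaf.stalk (iZ z)))
    (H : DvrHyp f g U h iZ h₀) (z : Z) :
    ∃ (U' : X.Opens) (hUU' : f ⁻¹ᵁ U ≤ U') (hx : iZ z ∈ U') (k : U'.toScheme ⟶ Y),
      k ≫ g = U'.ι ≫ f ∧ X.homOfLE hUU' ≫ k = h ∧ k ⟨iZ z, hx⟩ = h₀ z := by
  let q : pullback g f ⟶ X := pullback.snd g f
  let hX : ↑(f ⁻¹ᵁ U) ⟶ pullback g f := pullback.lift h (f ⁻¹ᵁ U).ι hh
  let y₀ : ↥(pullback g f) := (pullback.lift h₀ iZ hh₀) z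
  have hq : q y₀ = iZ z := by
    change (pullback.snd g f) ((pullback.lift h₀ iZ hh₀) z) = iZ z
    rw [← Scheme.Hom.comp_apply, pullback.lift_snd]
  have hfst : pullback.fst g f y₀ = h₀ z := by
    change (pullback.fst g f) ((pullback.lift h₀ iZ hh₀) z) = h₀ z
    rw [← Scheme.Hom.comp_apply, pullback.lift_fst]
  haveI : IsDomain (X.presheaf.stalk (q y₀)) := by rw [hq]; exact (hnorm z).1
  haveI : IsIntegrallyClosed (X.presheaf.stalk (q y₀)) := by rw [hq]; exact (hnorm z).2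
  have hzD : iZ z ∉ f ⁻¹ᵁ U := by
    intro hmem
    have : iZ z ∈ Set.range iZ := ⟨z, rfl⟩
    rw [hZ] at this
    exact this hmem
  have hxU : q y₀ ∉ f ⁻¹ᵁ U := by rw [hq]; exact hzD
  have hhX : hX ≫ q = (f ⁻¹ᵁ U).ι := pullback.lift_snd _ _ _
  obtain ⟨U', hUU', hxU', h', h'q, h'ext, h'val⟩ :=
    RatExt.extend_section_of_dvr q y₀ (f ⁻¹ᵁ U) (dense_preimage f U hU) hX hhX hxU (by
      intro R _ _ _ u' hu' ub hub
      obtain ⟨l₁, hl₁g, hl₁gen, hl₁cl⟩ := stepA f g U h iZ h₀ H R u' (by rw [hu']; exact hxU) ub hub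
      have hmem : (Spec.map (CommRingCat.ofHom (residue R)) ≫ u') (closedPoint (ResidueField R)) ∈
          Set.range iZ := by
        rw [Scheme.Hom.comp_apply, MonoVal.specMap_residue_apply, hu', hq]
        exact ⟨z, rfl⟩
      obtain ⟨t', ht'⟩ := DVRSch.exists_factor_of_mem_range iZ
        (Spec.map (CommRingCat.ofHom (residue R)) ≫ u') hmem
      have ht'pt : t' (closedPoint (ResidueField R)) = z := by
        apply iZ.isClosedEmbedding.injective
        rw [← Scheme.Hom.comp_apply, ht', Scheme.Hom.comp_apply, MonoVal.specMap_residue_apply, hu',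
          hq]
      refine ⟨pullback.lift l₁ u' hl₁g, pullback.lift_snd _ _ _, ?_, ?_⟩
      · have e : Spec.map (CommRingCat.ofHom (residue R)) ≫ pullback.lift l₁ u' hl₁g =
            t' ≫ pullback.lift h₀ iZ hh₀ := by
          apply pullback.hom_ext
          · rw [Category.assoc, pullback.lift_fst, Category.assoc, pullback.lift_fst, hl₁cl t' ht']
          · rw [Category.assoc, pullback.lift_snd, Category.assoc, pullback.lift_snd, ht']
        have e' := congr(($e) (closedPoint (ResidueField R)))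
        rw [Scheme.Hom.comp_apply, Scheme.Hom.comp_apply, MonoVal.specMap_residue_apply,
          ht'pt] at e'
        exact e'
      · apply pullback.hom_ext
        · rw [Category.assoc, pullback.lift_fst, Category.assoc, pullback.lift_fst, hl₁gen]
        · rw [Category.assoc, pullback.lift_snd, Category.assoc, pullback.lift_snd, hub])
  have hx : iZ z ∈ U' := hq ▸ hxU'
  refine ⟨U', hUU', hx, h' ≫ pullback.fst g f, ?_, ?_, ?_⟩
  · rw [Category.assoc, pullback.condition, reassoc_of% h'q]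
  · rw [reassoc_of% h'ext, pullback.lift_fst]
  · rw [Scheme.Hom.comp_apply]
    have : (⟨iZ z, hx⟩ : U'.toScheme) = ⟨q y₀, hxU'⟩ := Subtype.ext hq.symm
    rw [this, h'val, hfst]

end

end Groth.Agent.H5.PrescRed
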