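import Mathlib
import Groth.Agent.Lib.Helper5.PrescRed.PrB

/-!
# Extension with prescribed reduction: comparison, gluing and the main theorem
-/

set_option autoImplicit false

universe u

open CategoryTheory CategoryTheory.Limits AlgebraicGeometry TopologicalSpace IsLocalRing

namespace Groth.Agent.H5.PrescRed

open Groth.Agent.H8

section

variable {X Y S : Scheme.{u}} (f : X ⟶ S) (g : Y ⟶ S) (U : S.Opens) (h : ↑(f ⁻¹ᵁ U) ⟶ Y)
  {Z : Scheme.{u}} (iZ : Z ⟶ X) (h₀ : Z ⟶ Y)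

/-- Comparison through a discrete valuation ring: a local extension agrees with `h₀` at the level of
residue fields, once both values lie in a common affine open. -/
theorem dvr_compare [IsLocallyNoetherian X] (hD : Dense ((f ⁻¹ᵁ U : X.Opens) : Set X))
    [IsClosedImmersion iZ] (hZ : Set.range iZ = ((f ⁻¹ᵁ U : X.Opens) : Set X)ᶜ)
    (H : DvrHyp f g U h iZ h₀) (W : X.Opens) (k : W.toScheme ⟶ Y)
    (hagree : X.homOfLE (inf_le_left : f ⁻¹ᵁ U ⊓ W ≤ f ⁻¹ᵁ U) ≫ h =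
      X.homOfLE (inf_le_right : f ⁻¹ᵁ U ⊓ W ≤ W) ≫ k)
    (p' : Z) (hp : iZ p' ∈ W) (Y₀ : Y.Opens) (hY₀ : IsAffineOpen Y₀) (h1 : h₀ p' ∈ Y₀)
    (h2 : k ⟨iZ p', hp⟩ ∈ Y₀)
    (τ : Spec (Z.residueField p') ⟶ W.toScheme)
    (hτ : τ ≫ W.ι = Z.fromSpecResidueField p' ≫ iZ) :
    Z.fromSpecResidueField p' ≫ h₀ = τ ≫ k := by
  have hpD : iZ p' ∉ f ⁻¹ᵁ U := by
    intro hmem
    have : iZ p' ∈ Set.range iZ := ⟨p', rfl⟩
    rw [hZ] at this
    exact this hmem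
  obtain ⟨B, _, _, _, u', hu'c, hu'b⟩ := exists_dvr_through (f ⁻¹ᵁ U) hD (iZ p') hpD
  have hrub : Set.range (Spec.map (CommRingCat.ofHom (algebraMap B (FractionRing B))) ≫ u') ⊆
      Set.range (f ⁻¹ᵁ U).ι := by
    rw [Scheme.Opens.range_ι]
    rintro _ ⟨pt, rfl⟩
    rw [Scheme.Hom.comp_apply, DVRSch.specMap_fractionRing_apply]
    exact hu'b
  have hub := IsOpenImmersion.lift_fac (f ⁻¹ᵁ U).ι _ hrub
  obtain ⟨l₁, hl₁g, hl₁gen, hl₁cl⟩ := stepA f g U h iZ h₀ H B u' (by rw [hu'c]; exact hpD)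
    (IsOpenImmersion.lift (f ⁻¹ᵁ U).ι _ hrub) hub
  have hmem : (Spec.map (CommRingCat.ofHom (residue B)) ≫ u') (closedPoint (ResidueField B)) ∈
      Set.range iZ := by
    rw [Scheme.Hom.comp_apply, MonoVal.specMap_residue_apply, hu'c]
    exact ⟨p', rfl⟩
  obtain ⟨t', ht'⟩ := DVRSch.exists_factor_of_mem_range iZ
    (Spec.map (CommRingCat.ofHom (residue B)) ≫ u') hmem
  have ht'pt : t' (closedPoint (ResidueField B)) = p' := by
    apply iZ.isClosedEmbedding.injective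
    rw [← Scheme.Hom.comp_apply, ht', Scheme.Hom.comp_apply, MonoVal.specMap_residue_apply, hu'c]
  have hrW : Set.range u' ⊆ Set.range W.ι := by
    rw [Scheme.Opens.range_ι]
    exact MonoVal.range_subset_of_closedPoint_mem B u' W (by rw [hu'c]; exact hp)
  have huW := IsOpenImmersion.lift_fac W.ι u' hrW
  have huWc : (IsOpenImmersion.lift W.ι u' hrW) (closedPoint B) = ⟨iZ p', hp⟩ := by
    apply W.ι.isOpenEmbedding.injective
    rw [← Scheme.Hom.comp_apply, huW, hu'c]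
    rfl
  have hl : l₁ = IsOpenImmersion.lift W.ι u' hrW ≫ k := by
    apply local_domain_hom_ext B l₁ _ Y₀ hY₀
    · have e := congr(($(hl₁cl t' ht')) (closedPoint (ResidueField B)))
      rw [Scheme.Hom.comp_apply, Scheme.Hom.comp_apply, MonoVal.specMap_residue_apply, ht'pt] at e
      rw [e]; exact h1
    · rw [Scheme.Hom.comp_apply, huWc]; exact h2
    · rw [hl₁gen, ← Category.assoc]
      exact Extend.comp_eq_of_agree (f ⁻¹ᵁ U) W h k hagree _ _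
        (by rw [hub, Category.assoc, huW])
  subst ht'pt
  have hfac := Scheme.descResidueField_stalkClosedPointTo_fromSpecResidueField
    (ResidueField B) Z t'
  haveI : Epi (Spec.map (Scheme.descResidueField (Scheme.stalkClosedPointTo t'))) :=
    epi_specMap_of_isField (Field.toIsField _) (Field.toIsField _) _
  rw [← cancel_epi (Spec.map (Scheme.descResidueField (Scheme.stalkClosedPointTo t'))),
    reassoc_of% hfac, ← hl₁cl t' ht', hl, ← Category.assoc, ← Category.assoc]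
  congr 1
  rw [← cancel_mono W.ι, Category.assoc, huW, Category.assoc, hτ, reassoc_of% hfac, ht']

/-- A good local extension. -/
structure Good (W : X.Opens) (k : W.toScheme ⟶ Y) : Prop where
  isOver : k ≫ g = W.ι ≫ f
  agree : X.homOfLE (inf_le_left : f ⁻¹ᵁ U ⊓ W ≤ f ⁻¹ᵁ U) ≫ h =
    X.homOfLE (inf_le_right : f ⁻¹ᵁ U ⊓ W ≤ W) ≫ k
  val : ∀ (p' : Z) (hp : iZ p' ∈ W), k ⟨iZ p', hp⟩ = h₀ p'

theorem stepC [IsLocallyNoetherian S] [IsLocallyNoetherian X] [Flat f] [LocallyOfFiniteType g]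
    (hU : Dense (U : Set S)) (hh : h ≫ g = (f ⁻¹ᵁ U).ι ≫ f) [IsClosedImmersion iZ]
    (hZ : Set.range iZ = ((f ⁻¹ᵁ U : X.Opens) : Set X)ᶜ) (hh₀ : h₀ ≫ g = iZ ≫ f)
    (hnorm : ∀ z : Z, IsDomain (X.presheaf.stalk (iZ z)) ∧
      IsIntegrallyClosed (X.presheaf.stalk (iZ z)))
    (H : DvrHyp f g U h iZ h₀) (z : Z) :
    ∃ (W : X.Opens) (k : W.toScheme ⟶ Y), iZ z ∈ W ∧ Good f g U h iZ h₀ W k := by
  have hD := dense_preimage f U hU
  obtain ⟨U', hUU', hx, kB, hkBg, hkBext, hkBval⟩ := stepB f g U h iZ h₀ hU hh hZ hh₀ hnorm H z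
  obtain ⟨_, ⟨Y₀ : Y.Opens, hY₀, rfl⟩, hzY₀, -⟩ :=
    Y.isBasis_affineOpens.exists_subset_of_mem_open (Set.mem_univ (h₀ z)) isOpen_univ
  let C₀ : Set X := iZ '' ((h₀ ⁻¹ᵁ Y₀ : Z.Opens) : Set Z)ᶜ
  have hC₀ : IsClosed C₀ := iZ.isClosedEmbedding.isClosedMap _ (h₀ ⁻¹ᵁ Y₀).2.isClosed_compl
  let W : X.Opens := (U'.ι ''ᵁ (kB ⁻¹ᵁ Y₀)) ⊓ ⟨C₀ᶜ, hC₀.isOpen_compl⟩
  have hWU' : W ≤ U' := by
    intro y hy
    obtain ⟨w, -, rfl⟩ := hy.1
    exact w.2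
  have hzW : iZ z ∈ W := by
    refine ⟨⟨⟨iZ z, hx⟩, ?_, rfl⟩, ?_⟩
    · change kB _ ∈ Y₀
      rw [hkBval]; exact hzY₀
    · rintro ⟨z'', hz'', e⟩
      have := iZ.isClosedEmbedding.injective e
      subst this
      exact hz'' hzY₀
  have hover : (X.homOfLE hWU' ≫ kB) ≫ g = W.ι ≫ f := by
    rw [Category.assoc, hkBg, Scheme.homOfLE_ι_assoc]
  have hagree : X.homOfLE (inf_le_left : f ⁻¹ᵁ U ⊓ W ≤ f ⁻¹ᵁ U) ≫ h =
      X.homOfLE (inf_le_right : f ⁻¹ᵁ U ⊓ W ≤ W) ≫ X.homOfLE hWU' ≫ kB := by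
    rw [← hkBext]
    simp only [Scheme.homOfLE_homOfLE_assoc]
  refine ⟨W, X.homOfLE hWU' ≫ kB, hzW, hover, hagree, ?_⟩
  intro p' hp
  have hpY₀ : h₀ p' ∈ Y₀ := by
    by_contra hn
    exact hp.2 ⟨p', hn, rfl⟩
  have hkY₀ : (X.homOfLE hWU' ≫ kB) ⟨iZ p', hp⟩ ∈ Y₀ := by
    obtain ⟨w, hw, hwe⟩ := hp.1
    rw [Scheme.Hom.comp_apply]
    have : (X.homOfLE hWU') ⟨iZ p', hp⟩ = w := by
      apply U'.ι.isOpenEmbedding.injective
      rw [← Scheme.Hom.comp_apply, Scheme.homOfLE_ι]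
      exact hwe.symm
    rw [this]; exact hw
  have hrτ : Set.range (Z.fromSpecResidueField p' ≫ iZ) ⊆ Set.range W.ι := by
    rw [Scheme.Opens.range_ι]
    rintro _ ⟨pt, rfl⟩
    rw [Scheme.Hom.comp_apply, Scheme.fromSpecResidueField_apply]
    exact hp
  have hτ := IsOpenImmersion.lift_fac W.ι _ hrτ
  have hcmp := dvr_compare f g U h iZ h₀ hD hZ H W (X.homOfLE hWU' ≫ kB) hagree p' hp Y₀ hY₀
    hpY₀ hkY₀ _ hτ
  have e := congr(($hcmp) (closedPoint (Z.residueField p')))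
  rw [Scheme.Hom.comp_apply, Scheme.Hom.comp_apply, Scheme.fromSpecResidueField_apply] at e
  rw [e]
  congr 1
  apply W.ι.isOpenEmbedding.injective
  rw [← Scheme.Hom.comp_apply, hτ, Scheme.Hom.comp_apply, Scheme.fromSpecResidueField_apply]
  rfl

theorem good_agree [IsLocallyNoetherian X] (hD : Dense ((f ⁻¹ᵁ U : X.Opens) : Set X))
    (hZ : Set.range iZ = ((f ⁻¹ᵁ U : X.Opens) : Set X)ᶜ)
    (hnorm : ∀ z : Z, IsDomain (X.presheaf.stalk (iZ z)) ∧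
      IsIntegrallyClosed (X.presheaf.stalk (iZ z)))
    {W₁ W₂ : X.Opens} {k₁ : W₁.toScheme ⟶ Y} {k₂ : W₂.toScheme ⟶ Y}
    (G₁ : Good f g U h iZ h₀ W₁ k₁) (G₂ : Good f g U h iZ h₀ W₂ k₂) :
    X.homOfLE (inf_le_left : W₁ ⊓ W₂ ≤ W₁) ≫ k₁ = X.homOfLE (inf_le_right : W₁ ⊓ W₂ ≤ W₂) ≫ k₂ := by
  haveI : IsLocallyNoetherian (W₁ ⊓ W₂).toScheme :=
    isLocallyNoetherian_of_isOpenImmersion (W₁ ⊓ W₂).ι
  have hmemW : ∀ w : (W₁ ⊓ W₂).toScheme, (W₁ ⊓ W₂).ι w ∈ W₁ ⊓ W₂ := fun w => by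
    have hx : (W₁ ⊓ W₂).ι w ∈ Set.range (W₁ ⊓ W₂).ι := ⟨w, rfl⟩
    rwa [Scheme.Opens.range_ι] at hx
  have hD' : Dense (((W₁ ⊓ W₂).ι ⁻¹ᵁ (f ⁻¹ᵁ U) : (W₁ ⊓ W₂).toScheme.Opens) :
      Set (W₁ ⊓ W₂).toScheme) := by
    rw [dense_iff_inter_open]
    rintro O' hO' ⟨y', hy'⟩
    obtain ⟨d, hdO, hdD⟩ := hD.inter_open_nonempty ((W₁ ⊓ W₂).ι ''ᵁ ⟨O', hO'⟩)
      ((W₁ ⊓ W₂).ι ''ᵁ ⟨O', hO'⟩).2 ⟨(W₁ ⊓ W₂).ι y', y', hy', rfl⟩
    obtain ⟨d', hd'O, rfl⟩ := hdO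
    exact ⟨d', hd'O, hdD⟩
  apply eq_of_agree_dense ((W₁ ⊓ W₂).ι ⁻¹ᵁ (f ⁻¹ᵁ U)) hD'
  · have e1 := Extend.comp_eq_of_agree (f ⁻¹ᵁ U) W₁ h k₁ G₁.agree
      ((W₁ ⊓ W₂).ι ∣_ (f ⁻¹ᵁ U))
      (((W₁ ⊓ W₂).ι ⁻¹ᵁ (f ⁻¹ᵁ U)).ι ≫ X.homOfLE inf_le_left)
      (by rw [morphismRestrict_ι, Category.assoc, Scheme.homOfLE_ι])
    have e2 := Extend.comp_eq_of_agree (f ⁻¹ᵁ U) W₂ h k₂ G₂.agree
      ((W₁ ⊓ W₂).ι ∣_ (f ⁻¹ᵁ U))
      (((W₁ ⊓ W₂).ι ⁻¹ᵁ (f ⁻¹ᵁ U)).ι ≫ X.homOfLE inf_le_right)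
      (by rw [morphismRestrict_ι, Category.assoc, Scheme.homOfLE_ι])
    rw [Category.assoc] at e1 e2
    rw [← e1, ← e2]
  · intro w hw
    have hwD : (W₁ ⊓ W₂).ι w ∉ f ⁻¹ᵁ U := hw
    have hwr : (W₁ ⊓ W₂).ι w ∈ Set.range iZ := by rw [hZ]; exact hwD
    obtain ⟨p', hp'⟩ := hwr
    constructor
    · haveI : IsDomain (X.presheaf.stalk ((W₁ ⊓ W₂).ι w)) := by rw [← hp']; exact (hnorm p').1
      exact (asIso ((W₁ ⊓ W₂).ι.stalkMap w)).symm.commRingCatIsoToRingEquiv.toMulEquiv.isDomain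
        (X.presheaf.stalk ((W₁ ⊓ W₂).ι w))
    · have hw1 : iZ p' ∈ W₁ := hp' ▸ (hmemW w).1
      have hw2 : iZ p' ∈ W₂ := hp' ▸ (hmemW w).2
      have a1 : (X.homOfLE (inf_le_left : W₁ ⊓ W₂ ≤ W₁)) w = ⟨iZ p', hw1⟩ := by
        apply W₁.ι.isOpenEmbedding.injective
        rw [← Scheme.Hom.comp_apply, Scheme.homOfLE_ι]
        exact hp'.symm
      have a2 : (X.homOfLE (inf_le_right : W₁ ⊓ W₂ ≤ W₂)) w = ⟨iZ p', hw2⟩ := by
        apply W₂.ι.isOpenEmbedding.injective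
        rw [← Scheme.Hom.comp_apply, Scheme.homOfLE_ι]
        exact hp'.symm
      rw [Scheme.Hom.comp_apply, Scheme.Hom.comp_apply, a1, a2, G₁.val, G₂.val]

/-- The main theorem: extension with prescribed reduction iff the DVR criterion. -/
theorem main [IsLocallyNoetherian S] [IsLocallyNoetherian X] [Flat f] [LocallyOfFiniteType g]
    (hU : Dense (U : Set S)) (hh : h ≫ g = (f ⁻¹ᵁ U).ι ≫ f) [IsClosedImmersion iZ] [IsReduced Z]
    (hZ : Set.range iZ = ((f ⁻¹ᵁ U : X.Opens) : Set X)ᶜ) (hh₀ : h₀ ≫ g = iZ ≫ f)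
    (hnorm : ∀ z : Z, IsDomain (X.presheaf.stalk (iZ z)) ∧
      IsIntegrallyClosed (X.presheaf.stalk (iZ z))) :
    (∃ h' : X ⟶ Y, h' ≫ g = f ∧ (f ⁻¹ᵁ U).ι ≫ h' = h ∧ iZ ≫ h' = h₀) ↔
      DvrHyp f g U h iZ h₀ := by
  constructor
  · rintro ⟨h', h1, h2, h3⟩
    exact dvrHyp_of_exists f g U h iZ h₀ h' h1 h2 h3
  · intro H
    have hD := dense_preimage f U hU
    have hnotmem : ∀ p' : Z, iZ p' ∉ f ⁻¹ᵁ U := by
      intro p' hmem
      have : iZ p' ∈ Set.range iZ := ⟨p', rfl⟩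
      rw [hZ] at this
      exact this hmem
    choose W k hzW hgood using stepC f g U h iZ h₀ hU hh hZ hh₀ hnorm H
    let Wf : Option Z → X.Opens := fun o => o.elim (f ⁻¹ᵁ U) W
    let kf : ∀ o : Option Z, (Wf o).toScheme ⟶ Y := fun o =>
      match o with
      | none => h
      | some z => k z
    have hgoodf : ∀ o, Good f g U h iZ h₀ (Wf o) (kf o) := by
      intro o
      cases o with
      | none => exact ⟨hh, rfl, fun p' hp => absurd hp (hnotmem p')⟩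
      | some z => exact hgood z
    have hcov : IsOpenCover Wf := by
      apply eq_top_iff.mpr
      intro p _
      rw [Opens.mem_iSup]
      by_cases hp : p ∈ f ⁻¹ᵁ U
      · exact ⟨none, hp⟩
      · have : p ∈ Set.range iZ := by rw [hZ]; exact hp
        obtain ⟨z, rfl⟩ := this
        exact ⟨some z, hzW z⟩
    obtain ⟨h', hh'⟩ := exists_glue Wf hcov kf
      (fun i j => good_agree f g U h iZ h₀ hD hZ hnorm (hgoodf i) (hgoodf j))
    refine ⟨h', ?_, hh' none, ?_⟩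
    · apply (X.openCoverOfIsOpenCover Wf hcov).hom_ext
      intro o
      change (Wf o).ι ≫ h' ≫ g = (Wf o).ι ≫ f
      rw [reassoc_of% hh' o, (hgoodf o).isOver]
    · apply eq_of_fromSpecResidueField_eq
      intro p'
      obtain ⟨_, ⟨Y₀ : Y.Opens, hY₀, rfl⟩, hpY₀, -⟩ :=
        Y.isBasis_affineOpens.exists_subset_of_mem_open (Set.mem_univ (h₀ p')) isOpen_univ
      have hrτ : Set.range (Z.fromSpecResidueField p' ≫ iZ) ⊆ Set.range (W p').ι := by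
        rw [Scheme.Opens.range_ι]
        rintro _ ⟨pt, rfl⟩
        rw [Scheme.Hom.comp_apply, Scheme.fromSpecResidueField_apply]
        exact hzW p'
      have hτ := IsOpenImmersion.lift_fac (W p').ι _ hrτ
      have hcmp := dvr_compare f g U h iZ h₀ hD hZ H (W p') (k p') (hgood p').agree p' (hzW p')
        Y₀ hY₀ hpY₀ (by rw [(hgood p').val]; exact hpY₀) _ hτ
      have e : (W p').ι ≫ h' = k p' := hh' (some p')
      rw [hcmp, ← e, reassoc_of% hτ]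

end

end Groth.Agent.H5.PrescRed
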